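import Groth.Agent.HenselBranchLib.NormTensor

/-!
# Minimal primes of an algebra integral over a henselian local ring
-/

set_option autoImplicit false
set_option linter.style.haveILetI false
set_option backward.isDefEq.respectTransparency false
universe u

open IsLocalRing

namespace EtLocalRingLib

/-- A prime of an algebra integral over a henselian local ring lies in exactly one maximal ideal. -/
theorem existsUnique_maximal (R T : Type u) [CommRing R] [HenselianLocalRing R] [CommRing T] [Algebra R T]
    [Algebra.IsIntegral R T] (q : Ideal T) [hq : q.IsPrime] : ∃! m : Ideal T, m.IsMaximal ∧ q ≤ m := by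
  haveI : Algebra.IsIntegral R (T ⧸ q) := ⟨fun z => by
    obtain ⟨t, rfl⟩ := Ideal.Quotient.mk_surjective z
    exact (Algebra.IsIntegral.isIntegral (R := R) t).map (Ideal.Quotient.mkₐ R q)⟩
  haveI := HensFormalLib.isLocalRing_of_integral_domain R (T ⧸ q)
  obtain ⟨M, hM, hqM⟩ := Ideal.exists_le_maximal q hq.ne_top
  refine ⟨M, ⟨hM, hqM⟩, fun M' hM' => ?_⟩
  have h : ∀ I : Ideal T, I.IsMaximal → q ≤ I → I = (maximalIdeal (T ⧸ q)).comap (Ideal.Quotient.mk q) :=
    fun I hI hqI => by
    refine hI.eq_of_le (Ideal.comap_ne_top _ (maximalIdeal.isMaximal _).ne_top) ?_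
    rw [← Ideal.map_le_iff_le_comap]
    refine IsLocalRing.le_maximalIdeal fun htop => hI.ne_top ?_
    have := congrArg (Ideal.comap (Ideal.Quotient.mk q)) htop
    rwa [Ideal.comap_top, Ideal.comap_map_of_surjective _ Ideal.Quotient.mk_surjective,
      ← RingHom.ker_eq_comap_bot, Ideal.mk_ker, sup_eq_left.2 hqI] at this
  exact (h _ hM'.1 hM'.2).trans (h _ hM hqM).symm

end EtLocalRingLib
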