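import Groth.Agent.AlgSpRegLib.StalkShConseq
import Groth.Agent.AlgSpLib.EtNbhdFiltered
import Groth.Prelude.Def_EtBaseX
import Groth.Agent.EtLocLib.Unram
import Mathlib.FieldTheory.IsAlgClosed.AlgebraicClosure
import Mathlib.AlgebraicGeometry.Sites.EtalePoint

/-!
# The etale local ring of a scheme and of the algebraic space it represents
-/

set_option autoImplicit false
set_option linter.style.haveILetI false
set_option backward.isDefEq.respectTransparency false
set_option backward.isDefEq.respectTransparency.types false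

universe u

open CategoryTheory CategoryTheory.Limits AlgebraicGeometry Opposite AlgSp AlgSpLib Topology IsLocalRing

noncomputable section

namespace EtLocalRingLib

variable {X : Scheme.{u}} {Ω : Type u} [Field Ω] (ξ : Spec (CommRingCat.of Ω) ⟶ X)

/-- The inclusion of the spectrum of the algebraic closure. -/
abbrev closureι : Spec (CommRingCat.of (AlgebraicClosure Ω)) ⟶ Spec (CommRingCat.of Ω) :=
  Spec.map (CommRingCat.ofHom (algebraMap Ω (AlgebraicClosure Ω)))

/-- The scheme as a scheme over itself. -/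
abbrev base (X : Scheme.{u}) : Over X := Over.mk (𝟙 X)

/-- The geometric point of the space represented by the scheme. -/
def geomPt : FieldPt ((yon X).obj (base X)) where
  K := AlgebraicClosure Ω
  str := closureι ≫ ξ
  val := (J X).uliftYonedaEquiv ((yon X).map
    (Over.homMk (closureι ≫ ξ) (Category.comp_id _) : Over.mk (closureι ≫ ξ) ⟶ base X))

theorem geomPt_toHom : (geomPt ξ).toHom = (yon X).map (Over.homMk (closureι ≫ ξ) (Category.comp_id _)) :=
  Equiv.symm_apply_apply _ _

theorem geomPt_isGeometric : (geomPt ξ).IsGeometric := inferInstanceAs (IsAlgClosed (AlgebraicClosure Ω))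

theorem closureι_cancel {V : Scheme.{u}} {l l' : Spec (CommRingCat.of Ω) ⟶ V} (h : closureι ≫ l = closureι ≫ l') :
    l = l' := by
  obtain ⟨⟨s, a⟩, rfl⟩ := (Scheme.SpecToEquivOfField Ω V).symm.surjective l
  obtain ⟨⟨s', a'⟩, rfl⟩ := (Scheme.SpecToEquivOfField Ω V).symm.surjective l'
  have hs : s = s' := by
    have := congrArg (fun t : Spec (CommRingCat.of (AlgebraicClosure Ω)) ⟶ V => t default) h
    simpa [Scheme.SpecToEquivOfField] using this
  subst hs
  have h2 : (⟨s, a ≫ CommRingCat.ofHom (algebraMap Ω (AlgebraicClosure Ω))⟩ :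
      Σ x : V, V.residueField x ⟶ CommRingCat.of (AlgebraicClosure Ω)) =
      ⟨s, a' ≫ CommRingCat.ofHom (algebraMap Ω (AlgebraicClosure Ω))⟩ := by
    refine (Scheme.SpecToEquivOfField (AlgebraicClosure Ω) V).symm.injective ?_
    simpa [Scheme.SpecToEquivOfField] using h
  have h3 := eq_of_heq (Sigma.mk.inj_iff.1 h2).2
  congr 2
  ext x
  exact (algebraMap Ω (AlgebraicClosure Ω)).injective (congrArg (fun t => t.hom x) h3)

variable [IsSepClosed Ω]

theorem exists_lift (V : X.Etale) (m : Spec (CommRingCat.of (AlgebraicClosure Ω)) ⟶ V.left)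
    (hm : m ≫ V.hom = closureι ≫ ξ) : ∃ l, l ≫ V.hom = ξ ∧ closureι ≫ l = m := by
  haveI : Etale V.hom := V.prop
  let P := Limits.pullback V.hom ξ
  let n : Spec (CommRingCat.of (AlgebraicClosure Ω)) ⟶ P := pullback.lift m closureι hm
  haveI : Subsingleton ↥(Spec (CommRingCat.of Ω)) := inferInstanceAs (Subsingleton (PrimeSpectrum Ω))
  obtain ⟨l, hl, hl'⟩ := Scheme.exists_fac_of_etale_of_isSepClosed (pullback.snd V.hom ξ) (𝟙 _) (n default)
    (Subsingleton.elim _ _)
  refine ⟨l ≫ pullback.fst _ _, ?_, ?_⟩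
  · rw [Category.assoc, pullback.condition, ← Category.assoc, hl, Category.id_comp]
  · haveI : IsOpenImmersion (l ≫ pullback.snd V.hom ξ) := by rw [hl]; infer_instance
    haveI : IsOpenImmersion l := EtLocLib.isOpenImmersion_of_comp l (pullback.snd V.hom ξ)
    have hr : Set.range n ⊆ Set.range l := by
      rintro _ ⟨z, rfl⟩
      haveI : Subsingleton ↥(Spec (CommRingCat.of (AlgebraicClosure Ω))) :=
        inferInstanceAs (Subsingleton (PrimeSpectrum (AlgebraicClosure Ω)))
      exact ⟨default, by rw [hl', Subsingleton.elim z default]⟩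
    have hn : IsOpenImmersion.lift l n hr = closureι := by
      calc IsOpenImmersion.lift l n hr = IsOpenImmersion.lift l n hr ≫ l ≫ pullback.snd V.hom ξ := by
            rw [hl, Category.comp_id]
        _ = n ≫ pullback.snd V.hom ξ := by rw [← Category.assoc, IsOpenImmersion.lift_fac]
        _ = closureι := pullback.lift_snd _ _ _
    rw [← Category.assoc, ← hn, IsOpenImmersion.lift_fac]
    exact pullback.lift_fst _ _ _

/-- A neighbourhood of the point gives a neighbourhood of the geometric point. -/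
def nbhdFunctor : (Scheme.pointSmallEtale ξ).fiber.Elements ⥤ EtNbhd (geomPt ξ) where
  obj e := ⟨(EtOver.ofScheme (base X)).obj e.1, Over.homMk (closureι ≫ e.2.left) (by
      change (closureι ≫ e.2.left) ≫ e.1.hom ≫ 𝟙 X = closureι ≫ ξ
      exact (congrArg ((closureι ≫ e.2.left) ≫ ·) (Category.comp_id _)).trans
        ((Category.assoc _ _ _).trans (congrArg (closureι ≫ ·) (Over.w e.2)))), by
    rw [geomPt_toHom]
    change (yon X).map _ ≫ (yon X).map _ ≫ 𝟙 _ = _
    exact (congrArg ((yon X).map _ ≫ ·) (Category.comp_id _)).trans (((yon X).map_comp _ _).symm.trans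
      (congrArg (yon X).map (Over.OverMorphism.ext
        ((Category.assoc _ _ _).trans (congrArg (closureι ≫ ·) (Over.w e.2))))))⟩
  map {e e'} g := CategoryOfElements.homMk _ _ ((EtOver.ofScheme (base X)).map g.1) (Subtype.ext (by
    ext1
    change (closureι ≫ e.2.left) ≫ g.1.left = closureι ≫ e'.2.left
    exact (Category.assoc _ _ _).trans (congrArg (fun t => closureι ≫ t.left) g.2)))
  map_id e := CategoryOfElements.ext _ _ _ ((EtOver.ofScheme (base X)).map_id _)
  map_comp g g' := CategoryOfElements.ext _ _ _ ((EtOver.ofScheme (base X)).map_comp _ _)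

theorem nbhdFunctor_surjective (N : EtNbhd (geomPt ξ)) :
    ∃ (e : (Scheme.pointSmallEtale ξ).fiber.Elements) (g : (nbhdFunctor ξ).obj e ≅ N), True := by
  obtain ⟨E, l, hl⟩ := N
  let V := (EtOver.ofScheme (base X)).objPreimage E
  let i := (EtOver.ofScheme (base X)).objObjPreimageIso E
  let m : Spec (CommRingCat.of (AlgebraicClosure Ω)) ⟶ V.left := l.left ≫ i.inv.hom.left.left
  have hm : m ≫ V.hom = closureι ≫ ξ := by
    have h1 := hl
    rw [geomPt_toHom] at h1
    have h2 : (yon X).map i.inv.hom.left ≫ ((yon X).map (EtOver.homOfEtale V) ≫ 𝟙 _) = E.obj.hom := EtOver.w i.inv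
    rw [← h2, Category.comp_id, ← Functor.map_comp, ← Functor.map_comp] at h1
    exact (Category.assoc _ _ _).trans (congrArg CommaMorphism.left ((yon X).map_injective h1))
  obtain ⟨t, ht, ht'⟩ := exists_lift ξ V m hm
  refine ⟨⟨V, Over.homMk t ht⟩, CategoryOfElements.isoMk _ _ i (Subtype.ext ?_), trivial⟩
  ext1
  change (closureι ≫ t) ≫ i.hom.hom.left.left = l.left
  rw [ht']
  show (l.left ≫ i.inv.hom.left.left) ≫ i.hom.hom.left.left = l.left
  rw [Category.assoc]
  have h3 := congrArg (fun a => a.hom.left.left) i.inv_hom_id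
  simp only [ObjectProperty.FullSubcategory.comp_hom] at h3
  exact (congrArg (l.left ≫ ·) h3).trans (Category.comp_id _)

theorem nbhdFunctor_full {e e' : (Scheme.pointSmallEtale ξ).fiber.Elements}
    (g : (nbhdFunctor ξ).obj e ⟶ (nbhdFunctor ξ).obj e') : ∃ g₀ : e ⟶ e', (nbhdFunctor ξ).map g₀ = g := by
  obtain ⟨φ, hφ⟩ := (EtOver.ofScheme (base X)).map_surjective g.1
  refine ⟨CategoryOfElements.homMk _ _ φ (Over.OverMorphism.ext (closureι_cancel ?_)), CategoryOfElements.ext _ _ _ hφ⟩
  have h := congrArg (fun t => t.1.left) g.2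
  rw [← hφ] at h
  change closureι ≫ e.2.left ≫ φ.left = closureι ≫ e'.2.left
  rw [← Category.assoc]
  exact h

theorem nonempty_etaleLocalRing_equiv :
    ∃ (T : Type u) (_ : CommRing T) (_ : IsLocalRing T) (_ : EtCoh.IsStrictlyHenselianLocalRing T),
      Nonempty (↥(EtBase.etaleLocalRing ξ) ≃+* T) := by
  have hX : IsAlgSpace ((yon X).obj (base X)) := IsAlgSpace.yon_obj _
  have hp := geomPt_isGeometric ξ
  obtain ⟨U, a, u, ha, hu⟩ := AlgSpRegLib.exists_chart_at_point hX (Points.mk (geomPt ξ))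
  obtain ⟨T, _, _, _, _, hT, ⟨eT⟩⟩ := AlgSpRegLib.exists_sh_of_chart hX (geomPt ξ) hp ha u hu
  refine ⟨T, inferInstance, inferInstance, ⟨hT.henselian, hT.isSepClosure.sep_closed⟩, ?_⟩
  let p := geomPt ξ
  haveI := isCofiltered_etNbhd hX p hp
  haveI : PreservesFilteredColimitsOfSize.{u, u + 1} (forget CommRingCat.{u + 1}) :=
    preservesFilteredColimitsOfSize_of_univLE.{u + 1, u + 1, u, u + 1} (forget CommRingCat.{u + 1})
  let F := nbhdFunctor ξ
  let D := (CategoryOfElements.π (Scheme.pointSmallEtale ξ).fiber).op ⋙ EtBase.OO X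
  let β : ∀ e : (Scheme.pointSmallEtale ξ).fiber.Elements, Γ(e.1.left, ⊤) →+* T := fun e =>
    eT.toRingHom.comp ((stalkEtι p (OEt ((yon X).obj (base X))) (F.obj e)).hom.comp
      (ULift.ringEquiv (R := Γ(e.1.left, ⊤))).symm.toRingHom)
  have hw : ∀ {e e' : (Scheme.pointSmallEtale ξ).fiber.Elements} (g : e' ⟶ e) (s : Γ(e.1.left, ⊤)),
      β e' (g.1.left.appTop.hom s) = β e s := fun {e e'} g s =>
    congrArg eT (ConcreteCategory.congr_hom
      (colimit.w (stalkEtDiagram p (OEt ((yon X).obj (base X)))) (F.map g).op) (ULift.up s))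
  let c : Cocone D :=
    { pt := CommRingCat.of T
      ι :=
        { app := fun e => CommRingCat.ofHom (β e.unop)
          naturality := fun e e' g => CommRingCat.hom_ext (RingHom.ext fun s => hw g.unop s) } }
  let Ψ : ↥(EtBase.etaleLocalRing ξ) →+* T := (colimit.desc D c).hom
  have hΨ : ∀ (e : (Scheme.pointSmallEtale ξ).fiber.Elements) (s : Γ(e.1.left, ⊤)), Ψ ((colimit.ι D (op e)).hom s) = β e s := fun e s =>
    ConcreteCategory.congr_hom (colimit.ι_desc c (op e)) s
  refine ⟨RingEquiv.ofBijective Ψ ⟨(injective_iff_map_eq_zero Ψ).2 fun z hz => ?_, fun z => ?_⟩⟩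
  · obtain ⟨⟨e⟩, s, rfl⟩ := Concrete.colimit_exists_rep D z
    have h0 : (stalkEtι p (OEt ((yon X).obj (base X))) (F.obj e)).hom (ULift.up s) = 0 :=
      eT.map_eq_zero_iff.1 ((hΨ e s).symm.trans hz)
    obtain ⟨⟨M⟩, f, f', hf⟩ := Concrete.colimit_exists_of_rep_eq (stalkEtDiagram p (OEt ((yon X).obj (base X))))
      (i := op (F.obj e)) (j := op (F.obj e)) (ULift.up s) 0 (h0.trans (map_zero _).symm)
    obtain ⟨e', i, -⟩ := nbhdFunctor_surjective ξ M
    obtain ⟨g, hg⟩ := nbhdFunctor_full ξ (i.hom ≫ f.unop)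
    have h1 : g.1.left.appTop.hom s = 0 := by
      have h2 := congrArg ((stalkEtDiagram p (OEt ((yon X).obj (base X)))).map i.hom.op).hom (hf.trans (map_zero _))
      rw [map_zero, ← RingHom.comp_apply, ← CommRingCat.hom_comp, ← Functor.map_comp] at h2
      have h3 : f ≫ i.hom.op = (F.map g).op := by rw [hg]; rfl
      rw [h3] at h2
      exact congrArg ULift.down h2
    rw [← ConcreteCategory.congr_hom (colimit.w D g.op) s]
    exact (congrArg (colimit.ι D (op e')).hom h1).trans (map_zero _)
  · obtain ⟨z, rfl⟩ := eT.surjective z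
    obtain ⟨⟨N⟩, s, rfl⟩ := Concrete.colimit_exists_rep (stalkEtDiagram p (OEt ((yon X).obj (base X)))) z
    obtain ⟨e, i, -⟩ := nbhdFunctor_surjective ξ N
    let s' := ((stalkEtDiagram p (OEt ((yon X).obj (base X)))).map i.hom.op).hom s
    refine ⟨(colimit.ι D (op e)).hom s'.down, (hΨ e _).trans (congrArg eT ?_)⟩
    exact ConcreteCategory.congr_hom (colimit.w (stalkEtDiagram p (OEt ((yon X).obj (base X)))) i.hom.op) s

end EtLocalRingLib
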